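import Cfsg.Agent.H188.S3530.Solv

/-!
# S3530: groups with trivial odd core and simple components (helper188)
-/

set_option autoImplicit false
set_option linter.unusedSectionVars false

namespace Cfsg.Agent.H188.Red

open Subgroup Cfsg
open Cfsg.Agent.SignalizersComponents
open Cfsg.Agent.SignalizersComponents.Components
open Cfsg.Agent.H389.JSq (Ctx.comm_of_ne Ctx.mem_normalizer_of_map)

universe u

section

variable {Y : Type u} [Group Y] [Finite Y]

/-- a simple nonabelian subgroup meets its centralizer trivially -/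
theorem inf_centralizer_of_simple {K : Subgroup Y} (hs : IsSimpleGroup K) (hK : IsComponent K) :
    K ⊓ centralizer (K : Set Y) = ⊥ := by
  haveI := hs
  have h1 : (center K).Normal := inferInstance
  rcases h1.eq_bot_or_eq_top with h | h
  · rw [eq_bot_iff]
    intro x hx
    obtain ⟨hxK, hxc⟩ := Walter.AbStruct.mem_inf_centralizer_iff.1 hx
    rw [h, mem_bot] at hxc
    exact congrArg Subtype.val hxc
  · exact (quasisimple_center_ne_top hK.2 h).elim

theorem inf_eq_bot {K L : Subgroup Y} (hs : IsSimpleGroup K) (hK : IsComponent K) (hL : IsComponent L)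
    (h : K ≠ L) : K ⊓ L = ⊥ := by
  rw [← le_bot_iff, ← inf_centralizer_of_simple hs hK]
  exact le_inf inf_le_left (inf_le_right.trans (Ctx.comm_of_ne hL hK h.symm))

omit [Finite Y] in
/-- the product of two commuting subgroups -/
theorem mem_sup_comm {A B : Subgroup Y} (h : B ≤ centralizer (A : Set Y)) {x : Y} (hx : x ∈ A ⊔ B) :
    ∃ a ∈ A, ∃ b ∈ B, a * b = x := by
  have hc : ∀ a ∈ A, ∀ b ∈ B, a * b = b * a := fun a ha b hb => mem_centralizer_iff.mp (h hb) a ha
  have h1 : A ⊔ B ≤
      { carrier := {x | ∃ a ∈ A, ∃ b ∈ B, a * b = x}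
        mul_mem' := by
          rintro _ _ ⟨a, ha, b, hb, rfl⟩ ⟨a', ha', b', hb', rfl⟩
          refine ⟨a * a', mul_mem ha ha', b * b', mul_mem hb hb', ?_⟩
          calc a * a' * (b * b') = a * (a' * b) * b' := by group
            _ = a * (b * a') * b' := by rw [hc a' ha' b hb]
            _ = a * b * (a' * b') := by group
        one_mem' := ⟨1, one_mem _, 1, one_mem _, by simp⟩
        inv_mem' := by
          rintro _ ⟨a, ha, b, hb, rfl⟩
          refine ⟨a⁻¹, inv_mem ha, b⁻¹, inv_mem hb, ?_⟩
          rw [hc a⁻¹ (inv_mem ha) b⁻¹ (inv_mem hb), mul_inv_rev] } := by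
    refine sup_le ?_ ?_
    · intro a ha
      exact ⟨a, ha, 1, one_mem _, mul_one a⟩
    · intro b hb
      exact ⟨1, one_mem _, b, hb, one_mul b⟩
  exact h1 hx

/-- `E(Y) = K C_{E(Y)}(K)` -/
theorem layer_le_sup {K : Subgroup Y} (hK : IsComponent K) :
    layer Y ≤ K ⊔ (layer Y ⊓ centralizer (K : Set Y)) := by
  rw [layer_le_iff]
  intro L hL
  by_cases h : L = K
  · rw [h]; exact le_sup_left
  · exact (le_inf (component_le_layer hL) (Ctx.comm_of_ne hL hK h)).trans le_sup_right

theorem component_normal_layer {K : Subgroup Y} (hK : IsComponent K) :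
    layer Y ≤ normalizer (K : Set Y) := by
  refine (layer_le_sup hK).trans (sup_le le_normalizer (inf_le_right.trans (centralizer_le_normalizer _)))

/-- an element of the layer centralizing all components is trivial -/
theorem eq_one_of_cent (hc : centralizer (layer Y : Set Y) = ⊥) {x : Y}
    (hx : ∀ K : Subgroup Y, IsComponent K → x ∈ centralizer (K : Set Y)) : x = 1 := by
  have h1 : x ∈ centralizer (layer Y : Set Y) := by
    have h2 : layer Y ≤ centralizer ({x} : Set Y) := by
      rw [layer_le_iff]
      intro K hK k hk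
      rw [mem_centralizer_singleton_iff]
      exact mem_centralizer_iff.mp (hx K hK) k hk
    rw [mem_centralizer_iff]
    intro y hy
    exact mem_centralizer_singleton_iff.mp (h2 hy)
  rwa [hc, mem_bot] at h1

/-- **the normalizer of a Sylow 3-subgroup of the layer is solvable** -/
theorem solv_layer (hc : centralizer (layer Y : Set Y) = ⊥)
    (h3 : ∀ K : Subgroup Y, IsComponent K → 3 ∣ Nat.card K)
    (hsol : ∀ K : Subgroup Y, IsComponent K → ∀ T : Subgroup K, IsPGroup 3 T → T ≠ ⊥ →
      Group.IsSolvable (normalizer (T : Set K))) (T : Sylow 3 (layer Y)) :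
    Group.IsSolvable (normalizer ((T : Subgroup (layer Y)) : Set (layer Y))) := by
  refine solv_normalizer (G := layer Y) (ι := {K : Subgroup Y // IsComponent K})
    (fun K => K.1.subgroupOf (layer Y)) ?_ ?_ ?_ ?_ ?_ T
  · rintro ⟨K, hK⟩
    show (K.subgroupOf (layer Y)).Normal
    rw [normal_subgroupOf_iff_le_normalizer (component_le_layer hK)]
    exact component_normal_layer hK
  · rintro ⟨K, hK⟩
    rw [eq_top_iff]
    rintro ⟨x, hx⟩ -
    have h1 := layer_le_sup hK hx
    have h2 := mem_sup_comm (inf_le_right : layer Y ⊓ centralizer (K : Set Y) ≤ _) h1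
    obtain ⟨k, hk, c, hc, hkc⟩ := h2
    have h4 : (⟨x, hx⟩ : layer Y) = ⟨k, component_le_layer hK hk⟩ * ⟨c, hc.1⟩ := Subtype.ext hkc.symm
    rw [h4]
    refine mul_mem_sup (mem_subgroupOf.mpr hk) ?_
    rw [mem_centralizer_iff]
    intro y hy
    exact Subtype.ext (mem_centralizer_iff.mp hc.2 y (mem_subgroupOf.mp hy))
  · rintro ⟨x, hx⟩ h
    apply Subtype.ext
    refine eq_one_of_cent hc fun K hK => ?_
    rw [mem_centralizer_iff]
    intro y hy
    exact congrArg Subtype.val
      (mem_centralizer_iff.mp (h ⟨K, hK⟩) ⟨y, component_le_layer hK hy⟩ (mem_subgroupOf.mpr hy))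
  · rintro ⟨K, hK⟩
    show 3 ∣ Nat.card (K.subgroupOf (layer Y))
    rw [Nat.card_congr (subgroupOfEquivOfLe (component_le_layer hK)).toEquiv]
    exact h3 K hK
  · rintro ⟨K, hK⟩ S hS hS1
    obtain ⟨e, -⟩ : ∃ e : K.subgroupOf (layer Y) ≃* K,
      e = subgroupOfEquivOfLe (component_le_layer hK) := ⟨_, rfl⟩
    have h1 : S.map e.toMonoidHom ≠ ⊥ := by
      rw [Ne, map_eq_bot_iff_of_injective _ e.injective]; exact hS1
    have h2 := hsol K hK (S.map e.toMonoidHom) (hS.map _) h1
    have h4 : ∀ x : K.subgroupOf (layer Y), x ∈ normalizer (S : Set (K.subgroupOf (layer Y))) →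
        e x ∈ normalizer ((S.map e.toMonoidHom : Subgroup K) : Set K) := by
      intro x hx
      rw [mem_normalizer_iff]
      intro y
      obtain ⟨z, rfl⟩ := e.surjective y
      have h5 : e x * e z * (e x)⁻¹ = e (x * z * x⁻¹) := by rw [map_mul, map_mul, map_inv]
      have h6 : ∀ w, e w ∈ S.map e.toMonoidHom ↔ w ∈ S := fun w =>
        mem_map_iff_mem (f := e.toMonoidHom) e.injective
      rw [h5, h6, h6]
      exact mem_normalizer_iff.mp hx z
    exact Group.isSolvable_of_isSolvable_injective
      (f := (e.toMonoidHom.comp (normalizer (S : Set (K.subgroupOf (layer Y)))).subtype).codRestrict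
        (normalizer ((S.map e.toMonoidHom : Subgroup K) : Set K)) (fun x => h4 x x.2))
      (by
        intro x y hxy
        have := congrArg Subtype.val hxy
        exact Subtype.ext (e.injective this))

theorem dvd_iSup (T : Finset {K : Subgroup Y // IsComponent K}) {q : ℕ} (hq : q.Prime)
    (h : q ∣ Nat.card (⨆ K ∈ T, K.1 : Subgroup Y)) : ∃ K ∈ T, q ∣ Nat.card K.1 := by
  classical
  induction T using Finset.induction_on with
  | empty =>
    exfalso
    have h1 : (⨆ K ∈ (∅ : Finset {K : Subgroup Y // IsComponent K}), K.1 : Subgroup Y) = ⊥ := by simp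
    rw [h1, Subgroup.card_bot] at h
    exact hq.one_lt.ne' (Nat.dvd_one.mp h)
  | insert K T hKT ih =>
    rw [Finset.iSup_insert] at h
    have h1 : (⨆ L ∈ T, L.1 : Subgroup Y) ≤ centralizer (K.1 : Set Y) := by
      refine iSup₂_le fun L hL => Ctx.comm_of_ne L.2 K.2 ?_
      intro h
      exact hKT ((Subtype.ext h : L = K) ▸ hL)
    have h2 := CoprimeBasic.card_sup_dvd (h1.trans (centralizer_le_normalizer _))
    rcases (Nat.Prime.dvd_mul hq).mp (h.trans h2) with h3 | h3
    · exact ⟨K, Finset.mem_insert_self K T, h3⟩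
    · obtain ⟨L, hL, h4⟩ := ih h3
      exact ⟨L, Finset.mem_insert_of_mem hL, h4⟩

/-- the prime divisors of the order of the layer -/
theorem dvd_layer {q : ℕ} (hq : q.Prime) (h : q ∣ Nat.card (layer Y)) :
    ∃ K : Subgroup Y, IsComponent K ∧ q ∣ Nat.card K := by
  have := Fintype.ofFinite {K : Subgroup Y // IsComponent K}
  have h3 : layer Y = ⨆ K ∈ (Finset.univ : Finset {K : Subgroup Y // IsComponent K}), K.1 := by
    rw [layer, sSup_eq_iSup']
    simp only [Finset.mem_univ, iSup_pos]
    rfl
  rw [h3] at h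
  obtain ⟨K, -, hK⟩ := dvd_iSup Finset.univ hq h
  exact ⟨K.1, K.2, hK⟩

/-- the same for the product of the components with a property -/
theorem dvd_sSup {P : Subgroup Y → Prop} {q : ℕ} (hq : q.Prime)
    (h : q ∣ Nat.card (sSup {K : Subgroup Y | IsComponent K ∧ P K} : Subgroup Y)) :
    ∃ K : Subgroup Y, IsComponent K ∧ P K ∧ q ∣ Nat.card K := by
  classical
  have := Fintype.ofFinite {K : Subgroup Y // IsComponent K}
  have h3 : sSup {K : Subgroup Y | IsComponent K ∧ P K} =
      ⨆ K ∈ (Finset.univ.filter fun K : {K : Subgroup Y // IsComponent K} => P K.1), K.1 := by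
    apply le_antisymm
    · refine sSup_le ?_
      rintro K ⟨hK, hP⟩
      exact le_iSup₂_of_le (⟨K, hK⟩ : {K : Subgroup Y // IsComponent K})
        (Finset.mem_filter.mpr ⟨Finset.mem_univ _, hP⟩) le_rfl
    · refine iSup₂_le fun K hK => le_sSup ⟨K.2, (Finset.mem_filter.mp hK).2⟩
  rw [h3] at h
  obtain ⟨K, hK, h4⟩ := dvd_iSup _ hq h
  exact ⟨K.1, K.2, (Finset.mem_filter.mp hK).2, h4⟩

/-- the product of the components with an isomorphism invariant property is normal -/
theorem sSup_normal {P : Subgroup Y → Prop}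
    (hP : ∀ (e : Y ≃* Y) (K : Subgroup Y), P K → P (K.map e.toMonoidHom)) :
    (sSup {K : Subgroup Y | IsComponent K ∧ P K} : Subgroup Y).Normal := by
  have : (sSup {K : Subgroup Y | IsComponent K ∧ P K} : Subgroup Y).Characteristic :=
    Lib.Cores.sSup_characteristic _ (by
      rintro e N ⟨hN, hPN⟩
      exact ⟨isComponent_map_equiv e hN, hP e N hPN⟩)
  infer_instance

/-- the component `K` is normal if there is at most one other one and the layer has odd index -/
theorem component_normal {K L : Subgroup Y} (hK : IsComponent K)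
    (h : ∀ M : Subgroup Y, IsComponent M → M = K ∨ M = L) (hodd : Odd (layer Y).index) : K.Normal := by
  rw [← normalizer_eq_top_iff]
  by_contra hn
  have h1 : ∃ a : Y, a ∉ normalizer (K : Set Y) := by
    by_contra hcon
    push Not at hcon
    exact hn ((eq_top_iff' _).mpr hcon)
  obtain ⟨a, ha⟩ := h1
  have hL : ∀ g : Y, g ∉ normalizer (K : Set Y) → K.map (MulAut.conj g).toMonoidHom = L := by
    intro g hg
    rcases h _ (isComponent_conj g hK) with h2 | h2
    · exact (hg (Ctx.mem_normalizer_of_map h2)).elim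
    · exact h2
  have h2 : (normalizer (K : Set Y)).index = 2 := by
    rw [index_eq_two_iff']
    refine ⟨a⁻¹, fun b => ?_⟩
    by_cases hb : b ∈ normalizer (K : Set Y)
    · refine Or.inr ⟨hb, fun h3 => ha ?_⟩
      have h4 := mul_mem h3 (inv_mem hb)
      rw [mul_inv_cancel_right] at h4
      exact inv_mem_iff.mp h4
    · refine Or.inl ⟨?_, hb⟩
      apply Ctx.mem_normalizer_of_map
      have h4 : (K.map (MulAut.conj b).toMonoidHom).map (MulAut.conj a⁻¹).toMonoidHom =
          (K.map (MulAut.conj a).toMonoidHom).map (MulAut.conj a⁻¹).toMonoidHom := by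
        rw [hL a ha, hL b hb]
      have h5 : ∀ x y : Y, (K.map (MulAut.conj x).toMonoidHom).map (MulAut.conj y).toMonoidHom =
          K.map (MulAut.conj (y * x)).toMonoidHom := by
        intro x y
        rw [map_map]
        congr 1
        ext z
        simp [mul_assoc]
      rw [h5, h5, inv_mul_cancel] at h4
      rw [h4]
      ext z
      simp
  have h3 : (normalizer (K : Set Y)).index ∣ (layer Y).index :=
    index_dvd_of_le (component_normal_layer hK)
  rw [h2] at h3
  exact (Nat.not_even_iff_odd.mpr hodd) (even_iff_two_dvd.mpr h3)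

end

end Cfsg.Agent.H188.Red
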