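import Cfsg.Agent.H389.R.Ctx
import Cfsg.Agent.H188.S3530.Layer
import Cfsg.Agent.S0205

/-!
# S3530: reduction to one or two components (helper188)

`Inp m σ X`: the results of the other files used here, for the group `X`.
-/

set_option autoImplicit false
set_option linter.unusedSectionVars false
set_option linter.unusedVariables false
set_option linter.style.haveILetI false

namespace Cfsg.Agent.H188.Red

open Subgroup Cfsg
open Cfsg.Agent.H389.RSq
open Cfsg.Agent.SignalizersComponents
open Cfsg.Agent.SignalizersComponents.Components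
open Cfsg.Agent.H389.JSq (Ctx.comm_of_ne Ctx.mem_normalizer_of_map Has Has.of_prime_dvd)

universe u

/-- the results of the other parts used here -/
structure Inp (m : ℕ) (σ : Fin 5 → ℕ) (X : Type u) [Group X] [Finite X] : Prop where
  isK : ∀ K : Subgroup (X ⧸ pPrimeCore 2 X), IsComponent K → IsK K
  simple : ∀ (L : Type u) [Group L] [Finite L], IsK L → IsSimpleGroup L
  three : ∀ (L : Type u) [Group L] [Finite L], IsK L → 3 ∣ Nat.card L
  solv : ∀ (L : Type u) [Group L] [Finite L], IsK L → ∀ T : Subgroup L, IsPGroup 3 T → T ≠ ⊥ →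
    Group.IsSolvable (normalizer (T : Set L))
  index : Odd (layer (X ⧸ pPrimeCore 2 X)).index
  cent : centralizer ((layer (X ⧸ pPrimeCore 2 X) : Subgroup _) : Set (X ⧸ pPrimeCore 2 X)) = ⊥
  sylow3 : ∀ (E : Subgroup (X ⧸ pPrimeCore 2 X)) [E.Normal], (∀ i, i ≠ 0 → ¬ σ i ∣ Nat.card E) →
    ∀ T : Sylow 3 E, ((T : Subgroup E).map E.subtype).Normal
  two : M0 m σ (QuotientGroup.mk' (pPrimeCore 2 X)) → ∀ (E : Subgroup (X ⧸ pPrimeCore 2 X)) [E.Normal],
    Group.IsSolvable ((X ⧸ pPrimeCore 2 X) ⧸ E) → ∀ T : Sylow 3 E,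
    Group.IsSolvable (normalizer ((T : Subgroup E) : Set E)) → ∀ t : Fin 5,
    (∀ i, i ≠ 0 → i ≠ t → ¬ σ i ∣ Nat.card E) → False
  minus : ∀ (K : Subgroup (X ⧸ pPrimeCore 2 X)) [K.Normal] (e : ℕ), IsL2 2 e K → ∃ i, σ i ∣ 2 ^ e - 1

theorem fin5_two : ∀ s : Finset (Fin 5), 0 ∈ s → s.card ≤ 2 → ∃ t, ∀ i ∈ s, i = 0 ∨ i = t := by
  decide +kernel

theorem fin5_one : ∀ s : Finset (Fin 5), 0 ∈ s → ¬ 2 ≤ s.card → ∀ i ∈ s, i = 0 := by
  decide +kernel

theorem fin5_ex : ∀ s : Finset (Fin 5), 2 ≤ s.card → ∃ i ∈ s, i ≠ 0 := by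
  decide +kernel

section

variable {m : ℕ} {σ : Fin 5 → ℕ} {X : Type u} [Group X] [Finite X]

theorem m0 (h : Min m σ X) : M0 m σ (QuotientGroup.mk' (pPrimeCore 2 X)) where
  hm := h.hm
  sig := h.sig
  cl := h.cl
  k5 := h.k5
  surj := QuotientGroup.mk'_surjective _
  odd := by
    rw [QuotientGroup.ker_mk']
    exact Nat.coprime_two_right.mp (Lib.Cores.pPrimeCore_coprime (G := X) 2)
  solv := by
    apply Cfsg.Agent.S0205.result
    rw [QuotientGroup.ker_mk']
    exact Nat.coprime_two_right.mp (Lib.Cores.pPrimeCore_coprime (G := X) 2)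

/-- **the reduction** -/
theorem red (h : Min m σ X) (I : Inp m σ X) :
    (∃ K, M1 m σ (QuotientGroup.mk' (pPrimeCore 2 X)) K) ∨
      ∃ K L, M2 m σ (QuotientGroup.mk' (pPrimeCore 2 X)) K L := by
  classical
  haveI : Fact (Nat.Prime 3) := ⟨Nat.prime_three⟩
  have hM0 := m0 h
  have hO : pPrimeCore 2 (X ⧸ pPrimeCore 2 X) = ⊥ := Lib.Cores.pPrimeCore_quotient_pPrimeCore 2
  have hcent := I.cent
  have hidx := I.index
  haveI hnl : (layer (X ⧸ pPrimeCore 2 X)).Normal := LayerBasic.layer_normal _
  have h3 : ∀ K : Subgroup (X ⧸ pPrimeCore 2 X), IsComponent K → 3 ∣ Nat.card K :=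
    fun K hK => I.three K (I.isK K hK)
  have hsimple : ∀ K : Subgroup (X ⧸ pPrimeCore 2 X), IsComponent K → IsSimpleGroup K :=
    fun K hK => I.simple K (I.isK K hK)
  -- `0 ∈ Λ(K)`
  have h0 : ∀ K : Subgroup (X ⧸ pPrimeCore 2 X), IsComponent K → (0 : Fin 5) ∈ Lam σ K := by
    intro K hK
    rw [Lam, Finset.mem_filter]
    exact ⟨Finset.mem_univ _, by rw [h.sig.zero]; exact h3 K hK⟩
  have hmem : ∀ (K : Subgroup (X ⧸ pPrimeCore 2 X)) (i : Fin 5), i ∈ Lam σ K ↔ σ i ∣ Nat.card K := by
    intro K i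
    rw [Lam, Finset.mem_filter]
    exact ⟨fun h1 => h1.2, fun h1 => ⟨Finset.mem_univ _, h1⟩⟩
  -- (1) at least two classes
  have h2 : ∀ K : Subgroup (X ⧸ pPrimeCore 2 X), IsComponent K → 2 ≤ (Lam σ K).card := by
    intro K hK
    by_contra hlt
    obtain ⟨E, hE⟩ : ∃ E : Subgroup (X ⧸ pPrimeCore 2 X),
        E = sSup {K : Subgroup (X ⧸ pPrimeCore 2 X) | IsComponent K ∧
          ∀ i, i ≠ 0 → ¬ σ i ∣ Nat.card K} := ⟨_, rfl⟩
    haveI hEn : E.Normal := by
      rw [hE]
      refine sSup_normal (P := fun K => ∀ i, i ≠ 0 → ¬ σ i ∣ Nat.card K) ?_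
      intro e K hK i hi
      rw [← Nat.card_congr (K.equivMapOfInjective e.toMonoidHom e.injective).toEquiv]
      exact hK i hi
    have hKE : K ≤ E := by
      rw [hE]
      refine le_sSup ⟨hK, fun i hi hd => hi ?_⟩
      exact fin5_one _ (h0 K hK) hlt i ((hmem K i).mpr hd)
    have hdE : ∀ i, i ≠ 0 → ¬ σ i ∣ Nat.card E := by
      intro i hi hd
      rw [hE] at hd
      obtain ⟨L, hL, hPL, hdL⟩ := dvd_sSup (P := fun K => ∀ i, i ≠ 0 → ¬ σ i ∣ Nat.card K)
        (h.sig.prime i) hd
      exact hPL i hi hdL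
    obtain ⟨T⟩ : Nonempty (Sylow 3 E) := inferInstance
    have hT := I.sylow3 E hdE T
    have hTp : IsPGroup 3 ((T : Subgroup E).map E.subtype) := T.2.map _
    have hTc : (Nat.card ((T : Subgroup E).map E.subtype)).Coprime 2 := by
      obtain ⟨n, hn⟩ := IsPGroup.iff_card.1 hTp
      rw [hn]
      exact Nat.Coprime.pow_left n (by norm_num)
    have hTb := Lib.Cores.le_pPrimeCore hT hTc
    rw [hO, le_bot_iff, map_eq_bot_iff_of_injective _ E.subtype_injective] at hTb
    have h4 := T.dvd_card_of_dvd_card ((h3 K hK).trans (card_dvd_of_le hKE))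
    rw [hTb, card_bot] at h4
    omega
  -- (2) the classes of the components are not contained in `{0, t}`
  have hnt : ∀ t : Fin 5, ¬ ∀ K : Subgroup (X ⧸ pPrimeCore 2 X), IsComponent K →
      ∀ i ∈ Lam σ K, i = 0 ∨ i = t := by
    intro t ht
    obtain ⟨T⟩ : Nonempty (Sylow 3 (layer (X ⧸ pPrimeCore 2 X))) := inferInstance
    refine I.two hM0 (layer (X ⧸ pPrimeCore 2 X)) ?_ T ?_ t ?_
    · apply Cfsg.Agent.S0205.result
      exact hidx
    · exact solv_layer hcent h3 (fun K hK => I.solv K (I.isK K hK)) T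
    · intro i hi hit hd
      obtain ⟨K, hK, hdK⟩ := dvd_layer (h.sig.prime i) hd
      rcases ht K hK i ((hmem K i).mpr hdK) with h4 | h4
      · exact hi h4
      · exact hit h4
  -- (3) no three components with representatives of three classes
  have hsdr : ∀ K L M : Subgroup (X ⧸ pPrimeCore 2 X), IsComponent K → IsComponent L →
      IsComponent M → K ≠ L → K ≠ M → L ≠ M → ∀ i ∈ Lam σ K, ∀ j ∈ Lam σ L, i ≠ 0 → j ≠ 0 → i = j := by
    intro K L M hK hL hM hKL hKM hLM i hi j hj hi0 hj0
    by_contra hij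
    have e1 := Has.of_prime_dvd (h.sig.prime i) ((hmem K i).mp hi)
    have e2 := Has.of_prime_dvd (h.sig.prime j) ((hmem L j).mp hj)
    have e3 := Has.of_prime_dvd (h.sig.prime 0) ((hmem M 0).mp (h0 M hM))
    obtain ⟨x, hx⟩ := e1
    obtain ⟨y, hy⟩ := e2
    obtain ⟨z, hz⟩ := e3
    rw [← Subgroup.orderOf_coe] at hx hy hz
    have c1 : Commute (x : X ⧸ pPrimeCore 2 X) y :=
      mem_centralizer_iff.mp (Ctx.comm_of_ne hL hK hKL.symm y.2) x x.2
    have c2 : Commute (x : X ⧸ pPrimeCore 2 X) z :=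
      mem_centralizer_iff.mp (Ctx.comm_of_ne hM hK hKM.symm z.2) x x.2
    have c3 : Commute (y : X ⧸ pPrimeCore 2 X) z :=
      mem_centralizer_iff.mp (Ctx.comm_of_ne hM hL hLM.symm z.2) y y.2
    exact (h.cl.quotient (pPrimeCore 2 X)).no_comm (h.sig.tri hij hi0 hj0) hx hy hz c1 c2 c3
  -- a component exists
  obtain ⟨K, hK⟩ : ∃ K : Subgroup (X ⧸ pPrimeCore 2 X), IsComponent K := by
    by_contra hno
    push Not at hno
    exact hnt 0 fun K hK => (hno K hK).elim
  by_cases h1c : ∀ L : Subgroup (X ⧸ pPrimeCore 2 X), IsComponent L → L = K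
  · -- one component
    left
    have hl : layer (X ⧸ pPrimeCore 2 X) = K := by
      apply le_antisymm
      · rw [layer_le_iff]
        intro L hL
        rw [h1c L hL]
      · exact component_le_layer hK
    refine ⟨K, { toM0 := hM0, normal := ?_, isK := I.isK K hK, cent := ?_, index := ?_, lam := ?_ }⟩
    · rw [← hl]; exact hnl
    · rw [← hl]; exact hcent
    · rw [← hl]; exact hidx
    · by_contra hlt
      obtain ⟨t, ht⟩ := fin5_two _ (h0 K hK) (by omega)
      refine hnt t fun L hL => ?_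
      rw [h1c L hL]
      exact ht
  · push Not at h1c
    obtain ⟨L, hL, hLK⟩ := h1c
    by_cases h2c : ∀ M : Subgroup (X ⧸ pPrimeCore 2 X), IsComponent M → M = K ∨ M = L
    · -- two components
      right
      have hl : layer (X ⧸ pPrimeCore 2 X) = K ⊔ L := by
        apply le_antisymm
        · rw [layer_le_iff]
          intro M hM
          rcases h2c M hM with h4 | h4
          · rw [h4]; exact le_sup_left
          · rw [h4]; exact le_sup_right
        · exact sup_le (component_le_layer hK) (component_le_layer hL)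
      haveI hKn : K.Normal := component_normal hK h2c hidx
      haveI hLn : L.Normal := component_normal hL (fun M hM => (h2c M hM).symm) hidx
      refine ⟨K, L, ?_⟩
      refine
        { toM0 := hM0
          normalK := hKn
          normalL := hLn
          isKK := I.isK K hK
          isKL := I.isK L hL
          comm := ?_
          inf := ?_
          cent := ?_
          index := ?_
          lamK := h2 K hK
          lamL := h2 L hL
          lam := ?_
          minusK := fun e he => I.minus K e he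
          minusL := fun e he => I.minus L e he }
      · exact Ctx.comm_of_ne hK hL hLK.symm
      · exact inf_eq_bot (hsimple K hK) hK hL hLK.symm
      · rw [← hl]; exact hcent
      · rw [← hl]; exact hidx
      · by_contra hlt
        obtain ⟨t, ht⟩ := fin5_two (Lam σ K ∪ Lam σ L) (Finset.mem_union_left _ (h0 K hK)) (by omega)
        refine hnt t fun M hM i hi => ?_
        rcases h2c M hM with h4 | h4
        · rw [h4] at hi; exact ht i (Finset.mem_union_left _ hi)
        · rw [h4] at hi; exact ht i (Finset.mem_union_right _ hi)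
    · -- three components
      exfalso
      push Not at h2c
      obtain ⟨M, hM, hMK, hML⟩ := h2c
      have agree : ∀ A B : Subgroup (X ⧸ pPrimeCore 2 X), IsComponent A → IsComponent B → A ≠ B →
          ∀ i ∈ Lam σ A, ∀ j ∈ Lam σ B, i ≠ 0 → j ≠ 0 → i = j := by
        intro A B hA hB hAB
        obtain ⟨C, hC, hAC, hBC⟩ : ∃ C : Subgroup (X ⧸ pPrimeCore 2 X), IsComponent C ∧ A ≠ C ∧ B ≠ C := by
          by_contra hcon
          push Not at hcon
          have f1 := hcon K hK
          have f2 := hcon L hL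
          have f3 := hcon M hM
          by_cases a1 : A = K
          · have b2 := f2 (by rw [a1]; exact hLK.symm)
            have b3 := f3 (by rw [a1]; exact hMK.symm)
            exact hML (by rw [← b2, ← b3])
          · have b1 := f1 a1
            by_cases a2 : A = L
            · have b3 := f3 (by rw [a2]; exact hML.symm)
              exact hMK (by rw [← b3, ← b1])
            · have b2 := f2 a2
              exact hLK (by rw [← b2, ← b1])
        exact hsdr A B C hA hB hC hAB hAC hBC
      obtain ⟨t, htK, ht0⟩ := fin5_ex _ (h2 K hK)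
      obtain ⟨b, hbL, hb0⟩ := fin5_ex _ (h2 L hL)
      have htb : t = b := agree K L hK hL hLK.symm t htK b hbL ht0 hb0
      refine hnt t fun A hA i hi => ?_
      by_cases hi0 : i = 0
      · exact Or.inl hi0
      · right
        by_cases hAK : A = K
        · rw [hAK] at hi
          rw [htb]
          exact agree K L hK hL hLK.symm i hi b hbL hi0 hb0
        · exact agree A K hA hK hAK i hi t htK hi0 ht0

end

end Cfsg.Agent.H188.Red
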