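import Cfsg.Agent.H389.Comp

/-!
# S3530: normalizers of Sylow 3-subgroups of a product of simple groups (helper188)
-/

set_option autoImplicit false
set_option linter.unusedSectionVars false

namespace Cfsg.Agent.H188.Red

open Subgroup Cfsg

universe u

/-- a group with sufficiently many homomorphisms with solvable range is solvable -/
theorem isSolvable_of_homs {N : Type*} [Group N] {ι : Type*} [Finite ι] {Q : ι → Type*}
    [∀ i, Group (Q i)] (f : ∀ i, N →* Q i) (h : ∀ i, Group.IsSolvable (f i).range)
    (hinj : ∀ x, (∀ i, f i x = 1) → x = 1) : Group.IsSolvable N := by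
  classical
  haveI := Fintype.ofFinite ι
  have h1 : ∀ i, ∃ n, derivedSeries (f i).range n = ⊥ := fun i => (h i).solvable
  choose n hn using h1
  refine ⟨⟨Finset.univ.sup n, ?_⟩⟩
  rw [eq_bot_iff]
  intro x hx
  rw [mem_bot]
  refine hinj x fun i => ?_
  have h2 : x ∈ derivedSeries N (n i) :=
    derivedSeries_antitone N (Finset.le_sup (Finset.mem_univ i)) hx
  have h3 := map_derivedSeries_le_derivedSeries (f := (f i).rangeRestrict) (n i)
    (mem_map_of_mem _ h2)
  rw [hn i, mem_bot] at h3
  exact congrArg Subtype.val h3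

section

variable {G : Type u} [Group G] [Finite G]

theorem centralizer_normal {K : Subgroup G} (hK : K.Normal) : (centralizer (K : Set G)).Normal := by
  haveI := hK
  infer_instance

/-- **the normalizer of a Sylow 3-subgroup of a product of simple groups** -/
theorem solv_normalizer {ι : Type*} [Finite ι] (K : ι → Subgroup G) (hn : ∀ i, (K i).Normal)
    (hsup : ∀ i, K i ⊔ centralizer (K i : Set G) = ⊤)
    (hcen : ∀ x : G, (∀ i, x ∈ centralizer (K i : Set G)) → x = 1)
    (h3 : ∀ i, 3 ∣ Nat.card (K i))
    (hsol : ∀ i, ∀ T : Subgroup (K i), IsPGroup 3 T → T ≠ ⊥ →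
      Group.IsSolvable (normalizer (T : Set (K i)))) (T : Sylow 3 G) :
    Group.IsSolvable (normalizer ((T : Subgroup G) : Set G)) := by
  haveI : Fact (Nat.Prime 3) := ⟨Nat.prime_three⟩
  haveI hC : ∀ i, (centralizer (K i : Set G)).Normal := fun i => centralizer_normal (hn i)
  obtain ⟨N, hN⟩ : ∃ N : Subgroup G, N = normalizer ((T : Subgroup G) : Set G) := ⟨_, rfl⟩
  rw [← hN]
  refine isSolvable_of_homs (fun i => (QuotientGroup.mk' (centralizer (K i : Set G))).comp N.subtype)
    ?_ ?_
  · intro i
    -- `T ∩ K i`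
    obtain ⟨S, hS⟩ : ∃ S : Subgroup (K i), S = (T : Subgroup G).subgroupOf (K i) := ⟨_, rfl⟩
    have hSp : IsPGroup 3 S := by rw [hS]; exact T.2.comap_subtype
    have hS1 : S ≠ ⊥ := by
      obtain ⟨x, hx⟩ := exists_prime_orderOf_dvd_card' (G := K i) 3 (h3 i)
      have hx3 : orderOf (x : G) = 3 := by rw [Subgroup.orderOf_coe]; exact hx
      have h1 : IsPGroup 3 (zpowers (x : G)) :=
        IsPGroup.of_card (n := 1) (by rw [Nat.card_zpowers, hx3, pow_one])
      obtain ⟨Q, hQ⟩ := h1.exists_le_sylow
      obtain ⟨g, hg⟩ := MulAction.exists_smul_eq G Q T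
      have h2 : g * x * g⁻¹ ∈ (T : Subgroup G) := by
        rw [← hg, Sylow.coe_subgroup_smul]
        exact ⟨x, hQ (mem_zpowers _), rfl⟩
      have h4 : g * x * g⁻¹ ∈ K i := (hn i).conj_mem x x.2 g
      intro h5
      have h6 : (⟨g * x * g⁻¹, h4⟩ : K i) ∈ S := by rw [hS, mem_subgroupOf]; exact h2
      rw [h5, mem_bot] at h6
      have h7 : g * x * g⁻¹ = 1 := congrArg Subtype.val h6
      have h8 : (x : G) = 1 := by
        have : (x : G) = g⁻¹ * (g * x * g⁻¹) * g := by group
        rw [this, h7]; group
      rw [h8, orderOf_one] at hx3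
      omega
    have hM := hsol i S hSp hS1
    obtain ⟨M, hMd⟩ : ∃ M : Subgroup G, M = (normalizer (S : Set (K i))).map (K i).subtype := ⟨_, rfl⟩
    have hMs : Group.IsSolvable M := by
      rw [hMd]
      exact Group.isSolvable_of_surjective
        (f := ((normalizer (S : Set (K i))).equivMapOfInjective _ (K i).subtype_injective).toMonoidHom)
        ((normalizer (S : Set (K i))).equivMapOfInjective _ (K i).subtype_injective).surjective
    have hMm : Group.IsSolvable (M.map (QuotientGroup.mk' (centralizer (K i : Set G)))) :=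
      Group.isSolvable_of_surjective (f := (QuotientGroup.mk' (centralizer (K i : Set G))).subgroupMap M)
        ((QuotientGroup.mk' (centralizer (K i : Set G))).subgroupMap_surjective M)
    have hle : ((QuotientGroup.mk' (centralizer (K i : Set G))).comp N.subtype).range ≤
        M.map (QuotientGroup.mk' (centralizer (K i : Set G))) := by
      rintro _ ⟨⟨x, hx⟩, rfl⟩
      have h1 : x ∈ K i ⊔ centralizer (K i : Set G) := by rw [hsup]; exact mem_top x
      obtain ⟨k, hk, c, hc, rfl⟩ := mem_sup_of_normal_right.mp h1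
      refine ⟨k, ?_, ?_⟩
      · show k ∈ M
        rw [hMd]
        refine ⟨⟨k, hk⟩, ?_, rfl⟩
        rw [SetLike.mem_coe, mem_normalizer_iff]
        rintro ⟨y, hy⟩
        have hcy : c * y * c⁻¹ = y := by
          rw [mul_inv_eq_iff_eq_mul]
          exact (mem_centralizer_iff.mp hc y hy).symm
        have hkc : k * c * y * (k * c)⁻¹ = k * y * k⁻¹ := by
          have : k * c * y * (k * c)⁻¹ = k * (c * y * c⁻¹) * k⁻¹ := by group
          rw [this, hcy]
        rw [hN] at hx
        have h2 := mem_normalizer_iff.mp hx y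
        rw [hkc] at h2
        rw [hS, mem_subgroupOf, mem_subgroupOf]
        exact h2
      · show QuotientGroup.mk' (centralizer (K i : Set G)) k =
          QuotientGroup.mk' (centralizer (K i : Set G)) (k * c)
        rw [map_mul]
        have : QuotientGroup.mk' (centralizer (K i : Set G)) c = 1 :=
          (QuotientGroup.eq_one_iff c).mpr hc
        rw [this, mul_one]
    exact Group.isSolvable_of_isSolvable_injective (f := inclusion hle) (inclusion_injective hle)
  · rintro ⟨x, hx⟩ h
    apply Subtype.ext
    exact hcen x fun i => (QuotientGroup.eq_one_iff x).mp (h i)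

end

end Cfsg.Agent.H188.Red
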